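import Groth.Agent.L01.MultByUnip.Units
import Groth.Agent.L01.LieKolchin
import Groth.Agent.L01.UnipSplit.Split
import Groth.Agent.S7967
import Groth.Agent.S7986
import Groth.Agent.L25.GeomIrred
import Mathlib.RingTheory.Ideal.GoingDown
import Mathlib.GroupTheory.Solvable

/-!
# Extensions of connected unipotent groups by diagonalisable groups split
-/

set_option autoImplicit false

universe u

open TensorProduct WithConv Groth.L08 Groth.L01.UnipSplit

noncomputable section

namespace Groth.L01.MultByUnip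

variable {K : Type u} [Field K] {A : Type u} [CommRing A] [HopfAlgebra K A]

theorem kills_mul {I : Ideal A} [I.IsHopfIdeal K] {R : Type u} [CommRing R] [Algebra K R]
    (g h : WithConv (A →ₐ[K] R)) (hg : ∀ a ∈ I, g.ofConv a = 0) (hh : ∀ a ∈ I, h.ofConv a = 0) :
    ∀ a ∈ I, (g * h).ofConv a = 0 := by
  intro a ha
  let π := Bialgebra.Quotient.mkBialgHom (R := K) I
  let g' : WithConv ((A ⧸ I) →ₐ[K] R) := toConv (Ideal.Quotient.liftₐ I g.ofConv hg)
  let h' : WithConv ((A ⧸ I) →ₐ[K] R) := toConv (Ideal.Quotient.liftₐ I h.ofConv hh)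
  have hg' : toConv (g'.ofConv.comp (π : A →ₐ[K] A ⧸ I)) = g := WithConv.ofConv_injective (AlgHom.ext fun _ => rfl)
  have hh' : toConv (h'.ofConv.comp (π : A →ₐ[K] A ⧸ I)) = h := WithConv.ofConv_injective (AlgHom.ext fun _ => rfl)
  rw [← hg', ← hh', ← pre_mul]
  show (g' * h').ofConv (π a) = 0
  rw [show π a = 0 from Ideal.Quotient.eq_zero_iff_mem.2 ha, map_zero]

theorem kills_pinv {I : Ideal A} [I.IsHopfIdeal K] {R : Type u} [CommRing R] [Algebra K R]
    (g : WithConv (A →ₐ[K] R)) (hg : ∀ a ∈ I, g.ofConv a = 0) : ∀ a ∈ I, (pinv g).ofConv a = 0 :=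
  fun _ ha => hg _ (Ideal.IsHopfIdeal.antipode_mem (R := K) ha)

theorem kills_one {I : Ideal A} [I.IsHopfIdeal K] {R : Type u} [CommRing R] [Algebra K R] :
    ∀ a ∈ I, (1 : WithConv (A →ₐ[K] R)).ofConv a = 0 := fun a ha => by
  rw [AlgHom.convOne_apply, (‹I.IsHopfIdeal K›).toIsCoideal.counit_eq_zero ha, map_zero]

theorem isHopfIdeal_sup (I I' : Ideal A) [I.IsHopfIdeal K] [I'.IsHopfIdeal K] : (I ⊔ I').IsHopfIdeal K := by
  have hrep : Dyn.Represents K A (I ⊔ I') (fun R _ _ f => (∀ a ∈ I, f a = 0) ∧ ∀ a ∈ I', f a = 0) := by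
    intro R _ _ f
    refine ⟨fun h => ⟨fun a ha => h a (Ideal.mem_sup_left ha), fun a ha => h a (Ideal.mem_sup_right ha)⟩,
      fun h a ha => ?_⟩
    exact (sup_le (a := I) (b := I') (c := RingHom.ker f) h.1 h.2) ha
  exact isHopfIdeal_of_represents hrep (fun R _ _ => ⟨kills_one, kills_one⟩)
    (fun R _ _ g h hg hh => ⟨kills_mul g h hg.1 hh.1, kills_mul g h hg.2 hh.2⟩)
    (fun R _ _ g hg => ⟨kills_pinv g hg.1, kills_pinv g hg.2⟩)

/-- A map out of a surjection of Hopf algebras is a map of bialgebras. -/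
theorem exists_bialg_factor {Q W : Type u} [CommRing Q] [HopfAlgebra K Q] [CommRing W] [HopfAlgebra K W]
    (p : A →ₐc[K] Q) (hp : Function.Surjective p) (f : A →ₐc[K] W) (g : Q →ₐ[K] W)
    (hg : ∀ a, g (p a) = f a) : ∃ g' : Q →ₐc[K] W, ∀ a, g' (p a) = f a := by
  refine ⟨BialgHom.ofAlgHom g (AlgHom.ext fun y => ?_) (AlgHom.ext fun y => ?_), hg⟩
  · obtain ⟨a, rfl⟩ := hp y
    show Coalgebra.counit (R := K) (g (p a)) = Coalgebra.counit (R := K) (p a)
    rw [hg, CoalgHomClass.counit_comp_apply, CoalgHomClass.counit_comp_apply]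
  · obtain ⟨a, rfl⟩ := hp y
    show Algebra.TensorProduct.map g g (Coalgebra.comul (R := K) (p a)) = Coalgebra.comul (R := K) (g (p a))
    rw [hg, ← CoalgHomClass.map_comp_comul_apply p a, ← CoalgHomClass.map_comp_comul_apply f a]
    induction Coalgebra.comul (R := K) a with
    | zero => simp
    | add x y hx hy => simp only [map_add, hx, hy]
    | tmul x y => simp [hg]

theorem pinv_mul_rev {R : Type u} [CommRing R] [Algebra K R] (g h : WithConv (A →ₐ[K] R)) :
    pinv (g * h) = pinv h * pinv g :=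
  left_inv_eq_right_inv (pinv_mul (g * h)) (by rw [mul_assoc, ← mul_assoc h, mul_pinv, one_mul, mul_pinv])

theorem isUnipotent_of_surjective {W : Type u} [CommRing W] [HopfAlgebra K W] (p : A →ₐc[K] W)
    (hp : Function.Surjective p) (hU : HopfRep.IsUnipotent K A) : HopfRep.IsUnipotent K W :=
  isUnipotent_of_hasFlag (hasFlag_of_surjective (π := (p : A →ₗc[K] W)) hp
    (by rintro x rfl; exact map_one p) (hasFlag_of_isUnipotent hU))

/-- The identity component. -/
theorem exists_component [IsAlgClosed K] :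
    ∃ P : Ideal A, P.IsPrime ∧ P ∈ minimalPrimes A ∧ P.IsHopfIdeal K := by
  let ε := Bialgebra.counitAlgHom K A
  haveI : (RingHom.ker ε).IsPrime := RingHom.ker_isPrime ε
  obtain ⟨P, hPmin, hPε⟩ := Ideal.exists_minimalPrimes_le (I := (⊥ : Ideal A)) (J := RingHom.ker ε) bot_le
  haveI hP : P.IsPrime := hPmin.1.1
  have hεP : ∀ a ∈ P, ε a = 0 := fun a ha => hPε ha
  let π := Ideal.Quotient.mkₐ K P
  have hmin : ∀ {D : Type u} [CommRing D] [IsDomain D] (f : A →+* D), RingHom.ker f ≤ P → ∀ a ∈ P, f a = 0 := by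
    intro D _ _ f hle a ha
    haveI := RingHom.ker_isPrime f
    exact hPmin.2 ⟨RingHom.ker_isPrime f, bot_le⟩ hle ha
  refine ⟨P, hP, hPmin, { toIsCoideal := ⟨fun x hx => hεP x hx, fun x hx => ?_⟩, antipode_mem := fun x hx => ?_ }⟩
  · haveI : IsDomain ((A ⧸ P) ⊗[K] (A ⧸ P)) := Groth.L25.GeomIrred.isDomain_tensorProduct
    let εP : (A ⧸ P) →ₐ[K] K := Ideal.Quotient.liftₐ P ε hεP
    have hεP' : ∀ y, εP (π y) = Coalgebra.counit (R := K) y := fun y => rfl
    let D : A →ₐ[K] (A ⧸ P) ⊗[K] (A ⧸ P) := (Algebra.TensorProduct.map π π).comp (Bialgebra.comulAlgHom K A)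
    refine hmin (D : A →+* (A ⧸ P) ⊗[K] (A ⧸ P)) (fun a ha => ?_) x hx
    let q : (A ⧸ P) ⊗[K] (A ⧸ P) →ₐ[K] (A ⧸ P) :=
      (Algebra.TensorProduct.rid K K (A ⧸ P)).toAlgHom.comp (Algebra.TensorProduct.map (AlgHom.id K _) εP)
    have h1 : q (D a) = π a := by
      have h2 : ∀ w : A ⊗[K] A, q (Algebra.TensorProduct.map π π w) =
          π (TensorProduct.rid K A ((Coalgebra.counit (R := K) (A := A)).lTensor A w)) := by
        intro w
        induction w with
        | zero => simp
        | add x y hx hy => simp only [map_add, hx, hy]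
        | tmul x y => simp [q, hεP']
      show q (Algebra.TensorProduct.map π π (Coalgebra.comul (R := K) a)) = _
      rw [h2, Coalgebra.lTensor_counit_comul, TensorProduct.rid_tmul, one_smul]
    have h3 : D a = 0 := ha
    rw [h3, map_zero] at h1
    exact Ideal.Quotient.eq_zero_iff_mem.1 h1.symm
  · haveI : IsDomain ((A ⧸ P) ⊗[K] (A ⧸ P)) := Groth.L25.GeomIrred.isDomain_tensorProduct
    let εP : (A ⧸ P) →ₐ[K] K := Ideal.Quotient.liftₐ P ε hεP
    have hεP' : ∀ y, εP (π y) = Coalgebra.counit (R := K) y := fun y => rfl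
    -- the map `(g, h) ↦ g * h⁻¹`
    let D : A →ₐ[K] (A ⧸ P) ⊗[K] (A ⧸ P) :=
      (Algebra.TensorProduct.map π (π.comp (HopfAlgebra.antipodeAlgHom K A))).comp (Bialgebra.comulAlgHom K A)
    have key : ∀ a ∈ P, D a = 0 := hmin (D : A →+* (A ⧸ P) ⊗[K] (A ⧸ P)) (fun a ha => by
      let q : (A ⧸ P) ⊗[K] (A ⧸ P) →ₐ[K] (A ⧸ P) :=
        (Algebra.TensorProduct.rid K K (A ⧸ P)).toAlgHom.comp (Algebra.TensorProduct.map (AlgHom.id K _) εP)
      have h2 : ∀ w : A ⊗[K] A, q (Algebra.TensorProduct.map π (π.comp (HopfAlgebra.antipodeAlgHom K A)) w) =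
          π (TensorProduct.rid K A ((Coalgebra.counit (R := K) (A := A)).lTensor A w)) := by
        intro w
        induction w with
        | zero => simp
        | add x y hx hy => simp only [map_add, hx, hy]
        | tmul x y => simp [q, hεP']
      have h1 : q (D a) = π a := by
        show q (Algebra.TensorProduct.map π (π.comp (HopfAlgebra.antipodeAlgHom K A)) (Coalgebra.comul (R := K) a)) = _
        rw [h2, Coalgebra.lTensor_counit_comul, TensorProduct.rid_tmul, one_smul]
      have h3 : D a = 0 := ha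
      rw [h3, map_zero] at h1
      exact Ideal.Quotient.eq_zero_iff_mem.1 h1.symm)
    let q' : (A ⧸ P) ⊗[K] (A ⧸ P) →ₐ[K] (A ⧸ P) :=
      (Algebra.TensorProduct.lid K (A ⧸ P)).toAlgHom.comp (Algebra.TensorProduct.map εP (AlgHom.id K _))
    have h4 : ∀ w : A ⊗[K] A, q' (Algebra.TensorProduct.map π (π.comp (HopfAlgebra.antipodeAlgHom K A)) w) =
        π (HopfAlgebraStruct.antipode K (TensorProduct.lid K A ((Coalgebra.counit (R := K) (A := A)).rTensor A w))) := by
      intro w
      induction w with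
      | zero => simp
      | add x y hx hy => simp only [map_add, hx, hy]
      | tmul x y => simp [q', hεP']
    have h5 : q' (D x) = π (HopfAlgebraStruct.antipode K x) := by
      show q' (Algebra.TensorProduct.map π (π.comp (HopfAlgebra.antipodeAlgHom K A)) (Coalgebra.comul (R := K) x)) = _
      rw [h4, Coalgebra.rTensor_counit_comul, TensorProduct.lid_tmul, one_smul]
    rw [key x hx, map_zero] at h5
    exact Ideal.Quotient.eq_zero_iff_mem.1 h5.symm

theorem comap_minimalPrime {C : Type u} [CommRing C] [IsDomain C] [HopfAlgebra K C] (ψ : C →ₐc[K] A)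
    (hψ : Function.Injective ψ) {P : Ideal A} (hP : P ∈ minimalPrimes A) {c : C} (hc : ψ c ∈ P) : c = 0 := by
  let C' := (ψ : C →ₐ[K] A).range
  haveI : IsDomain C' :=
    MulEquiv.isDomain C (AlgEquiv.ofInjective (ψ : C →ₐ[K] A) hψ).symm.toMulEquiv
  haveI : Module.FaithfullyFlat C' A :=
    Groth.L25.HopfFlat.faithfullyFlat C' (Groth.L25.UnipExt.isHopfSubalgebra_range ψ)
  haveI : P.IsPrime := hP.1.1
  haveI : P.LiesOver (P.comap (algebraMap C' A)) := ⟨rfl⟩
  obtain ⟨Q, hQle, hQ, hQlies⟩ := Ideal.exists_ideal_le_liesOver_of_le (R := C') P (p := (⊥ : Ideal C'))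
    (q := P.comap (algebraMap C' A)) bot_le
  have hQP : Q = P := le_antisymm hQle (hP.2 ⟨hQ, bot_le⟩ hQle)
  subst hQP
  have h0 : (⟨ψ c, ⟨c, rfl⟩⟩ : C') ∈ (⊥ : Ideal C') := hQlies.over ▸ (show algebraMap C' A ⟨ψ c, ⟨c, rfl⟩⟩ ∈ Q from hc)
  exact hψ ((congrArg Subtype.val ((Ideal.mem_bot).1 h0)).trans (map_zero ψ).symm)

section Diag

variable {Q : Type u} [CommRing Q] [HopfAlgebra K Q]

theorem commute_of_diag (hQ : HopfRep.IsDiagonalizable K Q) {R : Type u} [CommRing R] [Algebra K R]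
    (g h : WithConv (Q →ₐ[K] R)) : g * h = h * g := by
  refine WithConv.ofConv_injective (AlgHom.toLinearMap_injective (LinearMap.ext_on hQ fun γ hγ => ?_))
  show (g * h).ofConv γ = (h * g).ofConv γ
  rw [AlgHom.convMul_apply, AlgHom.convMul_apply, (show IsGroupLikeElem K γ from hγ).comul_eq_tmul_self,
    Algebra.TensorProduct.lift_tmul, Algebra.TensorProduct.lift_tmul, mul_comm]

theorem isDiagonalizable_of_surjective (p : Q →ₐc[K] A) (hp : Function.Surjective p)
    (hQ : HopfRep.IsDiagonalizable K Q) : HopfRep.IsDiagonalizable K A := by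
  refine eq_top_iff.2 fun x _ => ?_
  obtain ⟨y, rfl⟩ := hp x
  have h := Submodule.mem_map_of_mem (f := (p : Q →ₗ[K] A)) (hQ.ge (Submodule.mem_top (x := y)))
  rw [Submodule.map_span] at h
  exact Submodule.span_mono (by rintro _ ⟨z, hz, rfl⟩; exact IsGroupLikeElem.map p hz) h

/-- A map between diagonalisable groups with trivial kernel on group-like elements and trivial cokernel. -/
theorem bijective_of_diag {B : Type u} [CommRing B] [HopfAlgebra K B] (hB : HopfRep.IsDiagonalizable K B)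
    (hQ : HopfRep.IsDiagonalizable K Q) (φ : B →ₐc[K] Q)
    (hker : ∀ γ, IsGroupLikeElem K γ → φ γ = 1 → γ = 1)
    (hcoker : ∀ q, IsGroupLikeElem K q →
      q - 1 ∈ Ideal.map (φ : B →+* Q) (RingHom.ker (Bialgebra.counitAlgHom K B))) :
    Function.Bijective φ := by
  classical
  let ν : GroupLike K B →* GroupLike K Q :=
    { toFun := fun γ => ⟨φ γ.val, γ.isGroupLikeElem_val.map φ⟩
      map_one' := GroupLike.ext (by simp)
      map_mul' := fun x y => GroupLike.ext (by simp) }
  have hspanB := fun b : B => (show b ∈ Submodule.span K (Set.range fun γ : GroupLike K B => γ.val) from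
    Submodule.span_mono (show {a | IsGroupLikeElem K a} ⊆ Set.range (fun γ : GroupLike K B => γ.val) from fun a ha => ⟨⟨a, ha⟩, rfl⟩) (hB.ge (Submodule.mem_top (x := b))))
  let bQ : Module.Basis (GroupLike K Q) K Q := Module.Basis.mk linearIndep_groupLikeVal
    (fun q _ => Submodule.span_mono (show {a | IsGroupLikeElem K a} ⊆ Set.range (fun γ : GroupLike K Q => γ.val) from fun a ha => ⟨⟨a, ha⟩, rfl⟩) (hQ.ge (Submodule.mem_top (x := q))))
  have hbQ : ∀ m, bQ m = m.val := fun m => Module.Basis.mk_apply _ _ m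
  let θ : Q →ₗ[K] K := bQ.constr K fun m => if m ∈ ν.range then 1 else 0
  have hθ : ∀ m : GroupLike K Q, θ m.val = if m ∈ ν.range then 1 else 0 := fun m => by
    rw [← hbQ, Module.Basis.constr_basis]
  have hmul : ∀ (q : Q) (b : B), θ (q * φ b) = Coalgebra.counit (R := K) b * θ q := by
    intro q b
    induction hspanB b using Submodule.span_induction with
    | mem x hx =>
      obtain ⟨γ, rfl⟩ := hx
      induction (bQ.mem_span q) using Submodule.span_induction with
      | mem y hy =>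
        obtain ⟨m, rfl⟩ := hy
        rw [hbQ, show m.val * φ γ.val = (m * ν γ).val from rfl, hθ, hθ, γ.isGroupLikeElem_val.counit_eq_one, one_mul]
        rw [Subgroup.mul_mem_cancel_right _ (⟨γ, rfl⟩ : ν γ ∈ ν.range)]
      | zero => simp
      | add y z _ _ hy hz => rw [add_mul, map_add, map_add, hy, hz, mul_add]
      | smul c y _ hy => rw [smul_mul_assoc, map_smul, map_smul, hy, smul_eq_mul, smul_eq_mul, mul_left_comm]
    | zero => simp
    | add x y _ _ hx hy => rw [map_add, mul_add, map_add, hx, hy, map_add, add_mul]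
    | smul c x _ hx => rw [map_smul, mul_smul_comm, map_smul, hx, map_smul, smul_eq_mul, smul_eq_mul, mul_assoc]
  have hθI : ∀ z ∈ Ideal.map (φ : B →+* Q) (RingHom.ker (Bialgebra.counitAlgHom K B)), ∀ q, θ (q * z) = 0 := by
    intro z hz
    induction hz using Submodule.span_induction with
    | mem x hx =>
      obtain ⟨b, hb, rfl⟩ := hx
      intro q
      show θ (q * φ b) = 0
      rw [hmul, show Coalgebra.counit (R := K) b = 0 from hb, zero_mul]
    | zero => simp
    | add x y _ _ hx hy => intro q; rw [mul_add, map_add, hx, hy, add_zero]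
    | smul r x _ hx => intro q; rw [smul_eq_mul, ← mul_assoc, hx]
  have hsurj : ∀ m : GroupLike K Q, ∃ γ, ν γ = m := by
    intro m
    by_contra hne
    have h := hθI _ (hcoker m.val m.isGroupLikeElem_val) 1
    rw [one_mul, map_sub, hθ, if_neg (show m ∉ ν.range from fun h => hne h), ← GroupLike.val_one (R := K) (A := Q), hθ, if_pos (one_mem _)] at h
    simp at h
  have hinj : Function.Injective ν := (injective_iff_map_eq_one ν).2 fun γ h =>
    GroupLike.ext ((hker _ γ.isGroupLikeElem_val (congrArg GroupLike.val h)).trans GroupLike.val_one.symm)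
  let bB : Module.Basis (GroupLike K B) K B := Module.Basis.mk linearIndep_groupLikeVal (fun b _ => hspanB b)
  let e : B ≃ₗ[K] Q := bB.equiv bQ (Equiv.ofBijective ν ⟨hinj, hsurj⟩)
  have he : (φ : B →ₗ[K] Q) = e.toLinearMap := bB.ext fun γ => by
    show φ (bB γ) = e (bB γ)
    rw [Module.Basis.equiv_apply, hbQ, Module.Basis.mk_apply]
    rfl
  have : ⇑φ = ⇑e := funext fun b => LinearMap.congr_fun he b
  rw [this]
  exact e.bijective

end Diag

variable {C : Type u} [CommRing C] [HopfAlgebra K C]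

/-- The existence of a group section, for a connected total space. -/
theorem exists_retraction_of_domain [IsAlgClosed K] [IsDomain A] [Algebra.FiniteType K A] [Algebra.FiniteType K C]
    (hC : HopfRep.IsUnipotent K C) (ψ : C →ₐc[K] A) (hψ : Function.Injective ψ)
    (J : Ideal A) [J.IsHopfIdeal K] (hJ : J = Ideal.map (ψ : C →+* A) (RingHom.ker (Bialgebra.counitAlgHom K C)))
    (hQ : HopfRep.IsDiagonalizable K (A ⧸ J)) :
    ∃ r : A →ₐc[K] C, ∀ c, r (ψ c) = c := by
  -- solvability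
  let f : WithConv (A →ₐ[K] K) →* WithConv (C →ₐ[K] K) :=
    { toFun := fun g => toConv (g.ofConv.comp (ψ : C →ₐ[K] A))
      map_one' := pre_one ψ
      map_mul' := fun g h => pre_mul ψ g h }
  haveI : Group.IsNilpotent (WithConv (C →ₐ[K] K)) := Groth.L08.isNilpotent_points hC
  haveI : Group.IsSolvable f.ker := Group.isSolvable_of_comm fun x y => Subtype.ext (by
    have hx := IsKer.kills hJ (show IsKer ψ x.1 from x.2)
    have hy := IsKer.kills hJ (show IsKer ψ y.1 from y.2)
    let π := Bialgebra.Quotient.mkBialgHom (R := K) J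
    let x' : WithConv ((A ⧸ J) →ₐ[K] K) := toConv (Ideal.Quotient.liftₐ J x.1.ofConv hx)
    let y' : WithConv ((A ⧸ J) →ₐ[K] K) := toConv (Ideal.Quotient.liftₐ J y.1.ofConv hy)
    have ex : toConv (x'.ofConv.comp (π : A →ₐ[K] A ⧸ J)) = x.1 := WithConv.ofConv_injective (AlgHom.ext fun _ => rfl)
    have ey : toConv (y'.ofConv.comp (π : A →ₐ[K] A ⧸ J)) = y.1 := WithConv.ofConv_injective (AlgHom.ext fun _ => rfl)
    show x.1 * y.1 = y.1 * x.1
    rw [← ex, ← ey, ← pre_mul, ← pre_mul, commute_of_diag hQ])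
  haveI : Group.IsSolvable (WithConv (A →ₐ[K] K)) :=
    Group.isSolvable_of_ker_le_range f.ker.subtype f (by rw [Subgroup.range_subtype])
  obtain ⟨B, _, _, ψB, J', hJ'hopf, hψB, hB, hJ', hU⟩ := (Groth.Agent.S7967.result K A).1
    (LieKolchin.isTrigonalizable (k := K) fun e he => IsIdempotentElem.iff_eq_zero_or_one.1 he)
  haveI := hJ'hopf
  let π := Bialgebra.Quotient.mkBialgHom (R := K) J
  let φ : B →ₐc[K] A ⧸ J := π.comp ψB
  have hker : ∀ γ, IsGroupLikeElem K γ → φ γ = 1 → γ = 1 := by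
    intro γ hγ h
    have hγ' : IsGroupLikeElem K (ψB γ) := hγ.map ψB
    have hfix := Groth.L25.UnipExt.mem_range_of_fixed ψ hJ (a := ψB γ) (by
      rw [hγ'.comul_eq_tmul_self, TensorProduct.map_tmul]
      show ψB γ ⊗ₜ[K] φ γ = _
      rw [h])
    obtain ⟨c, hc⟩ := hfix
    have hc' : ψ c = ψB γ := hc
    have hcg : IsGroupLikeElem K c := by
      refine ⟨?_, TensorProduct.map_injective_of_flat_flat (ψ : C →ₗ[K] A) (ψ : C →ₗ[K] A) hψ hψ ?_⟩
      · rw [← CoalgHomClass.counit_comp_apply ψ c, hc', hγ'.counit_eq_one]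
      · rw [CoalgHomClass.map_comp_comul_apply, TensorProduct.map_tmul]
        show Coalgebra.comul (R := K) (ψ c) = ψ c ⊗ₜ[K] ψ c
        rw [hc', hγ'.comul_eq_tmul_self]
    rw [Groth.Agent.S2966.groupLike_eq_one hC hcg, map_one] at hc'
    exact hψB (hc'.symm.trans (map_one ψB).symm)
  haveI := isHopfIdeal_sup (K := K) J' J
  let W := A ⧸ (J' ⊔ J)
  obtain ⟨pU, hpU⟩ := exists_bialg_factor (Bialgebra.Quotient.mkBialgHom (R := K) J') Ideal.Quotient.mk_surjective
    (Bialgebra.Quotient.mkBialgHom (R := K) (J' ⊔ J)) (Ideal.Quotient.factorₐ K le_sup_left) fun _ => rfl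
  obtain ⟨pQ, hpQ⟩ := exists_bialg_factor π Ideal.Quotient.mk_surjective
    (Bialgebra.Quotient.mkBialgHom (R := K) (J' ⊔ J)) (Ideal.Quotient.factorₐ K le_sup_right) fun _ => rfl
  have hW : HopfRep.IsUnipotent K W := isUnipotent_of_surjective pU (fun w => by
    obtain ⟨a, rfl⟩ := Ideal.Quotient.mk_surjective w
    exact ⟨_, hpU a⟩) hU
  have hcoker : ∀ q, IsGroupLikeElem K q →
      q - 1 ∈ Ideal.map (φ : B →+* A ⧸ J) (RingHom.ker (Bialgebra.counitAlgHom K B)) := by
    intro q hq
    obtain ⟨a, rfl⟩ := Ideal.Quotient.mk_surjective q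
    have h1 := Groth.Agent.S2966.groupLike_eq_one hW (hq.map pQ)
    rw [show pQ (Ideal.Quotient.mk J a) = Ideal.Quotient.mk (J' ⊔ J) a from hpQ a, ← map_one (Ideal.Quotient.mk (J' ⊔ J)),
      Ideal.Quotient.eq] at h1
    obtain ⟨x, hx, y, hy, hxy⟩ := Submodule.mem_sup.1 h1
    rw [← map_one (Ideal.Quotient.mk J), ← map_sub, ← hxy, map_add, Ideal.Quotient.eq_zero_iff_mem.2 hy, add_zero]
    have h2 := Ideal.mem_map_of_mem (Ideal.Quotient.mk J) (hJ' ▸ hx)
    rw [Ideal.map_map] at h2
    exact h2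
  have hφ := bijective_of_diag hB hQ φ hker hcoker
  let e := BialgEquiv.ofBijective φ hφ
  let s : A →ₐc[K] A := (ψB.comp (e.symm : (A ⧸ J) →ₐc[K] B)).comp π
  have hπs : ∀ a, π (s a) = π a := fun a => e.apply_symm_apply (π a)
  let ι₀ : WithConv (A →ₐ[K] A) := toConv (AlgHom.id K A)
  let n : A →ₐ[K] A := (ι₀ * pinv (toConv (s : A →ₐ[K] A))).ofConv
  -- `π` restricted to the subgroup
  have hπψ : toConv (((π : A →ₐ[K] A ⧸ J)).comp (ψ : C →ₐ[K] A)) = 1 := isKer_mk J hJ
  have hsψ : toConv ((s : A →ₐ[K] A).comp (ψ : C →ₐ[K] A)) = 1 := by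
    have h := congrArg (fun t : WithConv (C →ₐ[K] A ⧸ J) =>
      toConv (((ψB.comp (e.symm : (A ⧸ J) →ₐc[K] B)) : (A ⧸ J) →ₐ[K] A).comp t.ofConv)) hπψ
    exact h.trans (post_one _)
  have hnψ : ∀ c, n (ψ c) = ψ c := by
    intro c
    have h : toConv (n.comp (ψ : C →ₐ[K] A)) = toConv (ψ : C →ₐ[K] A) := by
      show toConv ((ι₀ * pinv (toConv (s : A →ₐ[K] A))).ofConv.comp (ψ : C →ₐ[K] A)) = _
      rw [pre_mul, pre_pinv, show toConv ((toConv (s : A →ₐ[K] A)).ofConv.comp (ψ : C →ₐ[K] A)) = 1 from hsψ,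
        pinv_one, mul_one]
      rfl
    exact congrArg (fun t : WithConv (C →ₐ[K] A) => t.ofConv c) h
  -- points of the subgroup commute with everything
  have hsfix : ∀ {R : Type u} [CommRing R] [Algebra K R] (h : WithConv (A →ₐ[K] R)), IsKer ψ h →
      toConv (h.ofConv.comp (s : A →ₐ[K] A)) = h := by
    intro R _ _ h hh
    have hk := IsKer.kills hJ hh
    let h' := Ideal.Quotient.liftₐ J h.ofConv hk
    refine WithConv.ofConv_injective (AlgHom.ext fun a => ?_)
    show h.ofConv (s a) = h.ofConv a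
    exact congrArg h' (hπs a)
  have hsker : ∀ {R : Type u} [CommRing R] [Algebra K R] (g : WithConv (A →ₐ[K] R)),
      IsKer ψ (toConv (g.ofConv.comp (s : A →ₐ[K] A))) := by
    intro R _ _ g
    have h := congrArg (fun t : WithConv (C →ₐ[K] A) => toConv (g.ofConv.comp t.ofConv)) hsψ
    exact h.trans (post_one _)
  have hcomm : ∀ {R : Type u} [CommRing R] [Algebra K R] (g h : WithConv (A →ₐ[K] R)), IsKer ψ h → h * g = g * h := by
    intro R _ _ g h hh
    have h1 := hsfix _ (IsKer.conj hh g)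
    rw [pre_mul, pre_mul, pre_pinv, hsfix h hh] at h1
    have h2 : ∀ x y : WithConv (A →ₐ[K] R),
        toConv (x.ofConv.comp (s : A →ₐ[K] A)) * toConv (y.ofConv.comp (s : A →ₐ[K] A)) =
        toConv (y.ofConv.comp (s : A →ₐ[K] A)) * toConv (x.ofConv.comp (s : A →ₐ[K] A)) := by
      intro x y
      let x' : WithConv ((A ⧸ J) →ₐ[K] R) :=
        toConv (x.ofConv.comp ((ψB.comp (e.symm : (A ⧸ J) →ₐc[K] B)) : (A ⧸ J) →ₐ[K] A))
      let y' : WithConv ((A ⧸ J) →ₐ[K] R) :=
        toConv (y.ofConv.comp ((ψB.comp (e.symm : (A ⧸ J) →ₐc[K] B)) : (A ⧸ J) →ₐ[K] A))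
      show toConv (x'.ofConv.comp (π : A →ₐ[K] A ⧸ J)) * toConv (y'.ofConv.comp (π : A →ₐ[K] A ⧸ J)) =
        toConv (y'.ofConv.comp (π : A →ₐ[K] A ⧸ J)) * toConv (x'.ofConv.comp (π : A →ₐ[K] A ⧸ J))
      exact ((pre_mul π x' y').symm.trans (by rw [commute_of_diag hQ x' y'])).trans (pre_mul π y' x')
    have h3 : pinv g * h * g = h := by
      rw [← h1, ← hsfix h hh, ← pre_pinv, h2 (pinv g) h, mul_assoc, pre_pinv, pinv_mul, mul_one, hsfix h hh]
    calc h * g = g * (pinv g * h * g) := by rw [← mul_assoc, ← mul_assoc, mul_pinv, one_mul]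
      _ = g * h := by rw [h3]
  -- the image of `n` is the quotient
  have hrange : ∀ a, n a ∈ (ψ : C →ₐ[K] A).range := by
    intro a
    refine Groth.L25.UnipExt.mem_range_of_fixed ψ hJ ?_
    let R := A ⊗[K] (A ⧸ J)
    let iA : A →ₐ[K] R := Algebra.TensorProduct.includeLeft
    let h : WithConv (A →ₐ[K] R) :=
      toConv ((Algebra.TensorProduct.includeRight : (A ⧸ J) →ₐ[K] R).comp (Ideal.Quotient.mkₐ K J))
    let T : A →ₐ[K] R := (toConv iA * h).ofConv
    have hh : IsKer ψ h := (isKer_mk J hJ).post (Algebra.TensorProduct.includeRight : (A ⧸ J) →ₐ[K] R)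
    have hT : toConv (T.comp n) = toConv (iA.comp n) := by
      show toConv (T.comp (ι₀ * pinv (toConv (s : A →ₐ[K] A))).ofConv) =
        toConv (iA.comp (ι₀ * pinv (toConv (s : A →ₐ[K] A))).ofConv)
      rw [UnipSplit.post_mul, UnipSplit.post_mul,
        show toConv (T.comp (pinv (toConv (s : A →ₐ[K] A))).ofConv) =
          pinv (toConv (T.comp (s : A →ₐ[K] A))) from rfl,
        show toConv (T.comp (s : A →ₐ[K] A)) = toConv (iA.comp (s : A →ₐ[K] A)) * h by
          show toConv ((toConv iA * h).ofConv.comp (s : A →ₐ[K] A)) = _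
          rw [pre_mul, hsfix h hh]]
      rw [pinv_mul_rev, show toConv (T.comp ι₀.ofConv) = toConv iA * h from rfl, mul_assoc (toConv iA) h,
        ← mul_assoc h (pinv h), mul_pinv]
      exact congrArg (toConv iA * ·) (one_mul (M := WithConv (A →ₐ[K] R)) _)
    have h4 := congrArg (fun t : WithConv (A →ₐ[K] R) => t.ofConv a) hT
    refine Eq.trans ?_ h4
    exact (eval_incl (AlgHom.id K A) (Ideal.Quotient.mkₐ K J) (n a)).symm
  -- the retraction
  let eC := AlgEquiv.ofInjective (ψ : C →ₐ[K] A) hψ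
  let r₀ : A →ₐ[K] C := (eC.symm : (ψ : C →ₐ[K] A).range →ₐ[K] C).comp (n.codRestrict _ hrange)
  have hr₀ : ∀ a, ψ (r₀ a) = n a := fun a => congrArg Subtype.val (eC.apply_symm_apply ⟨n a, hrange a⟩)
  have hn1 : ∀ a, Coalgebra.counit (R := K) (n a) = Coalgebra.counit (R := K) a := by
    intro a
    have h : toConv ((Bialgebra.counitAlgHom K A).comp n) = 1 := by
      show toConv ((Bialgebra.counitAlgHom K A).comp (ι₀ * pinv (toConv (s : A →ₐ[K] A))).ofConv) = 1
      rw [UnipSplit.post_mul, show toConv ((Bialgebra.counitAlgHom K A).comp ι₀.ofConv) = 1 from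
          WithConv.ofConv_injective (AlgHom.ext fun a => by simp [ι₀, AlgHom.convOne_apply]),
        show toConv ((Bialgebra.counitAlgHom K A).comp (pinv (toConv (s : A →ₐ[K] A))).ofConv) = 1 from
          WithConv.ofConv_injective (AlgHom.ext fun a => by
            show Coalgebra.counit (R := K) (s (HopfAlgebraStruct.antipode K a)) = _
            rw [CoalgHomClass.counit_comp_apply, HopfAlgebra.counit_antipode, AlgHom.convOne_apply]
            rfl), one_mul]
    have := congrArg (fun t : WithConv (A →ₐ[K] K) => t.ofConv a) h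
    simpa [AlgHom.convOne_apply] using this
  have hnΔ : ∀ a, Coalgebra.comul (R := K) (n a) = TensorProduct.map n.toLinearMap n.toLinearMap (Coalgebra.comul (R := K) a) := by
    intro a
    let R := A ⊗[K] A
    let x : WithConv (A →ₐ[K] R) := toConv Algebra.TensorProduct.includeLeft
    let y : WithConv (A →ₐ[K] R) := toConv Algebra.TensorProduct.includeRight
    let Δ₀ := Bialgebra.comulAlgHom K A
    have hΔ : toConv Δ₀ = x * y := WithConv.ofConv_injective (AlgHom.ext fun b => by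
      show Coalgebra.comul (R := K) b = _
      exact ((eval_incl (AlgHom.id K A) (AlgHom.id K A) b).trans (by
        rw [AlgHom.toLinearMap_id, TensorProduct.map_id, LinearMap.id_apply])).symm)
    have hpost : ∀ z : WithConv (A →ₐ[K] R), toConv (z.ofConv.comp n) =
        z * pinv (toConv (z.ofConv.comp (s : A →ₐ[K] A))) := by
      intro z
      show toConv (z.ofConv.comp (ι₀ * pinv (toConv (s : A →ₐ[K] A))).ofConv) = _
      rw [UnipSplit.post_mul]
      rfl
    have key : toConv (Δ₀.comp n) = toConv (x.ofConv.comp n) * toConv (y.ofConv.comp n) := by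
      have h0 := hpost (toConv Δ₀)
      rw [hΔ, pre_mul, pinv_mul_rev] at h0
      rw [show toConv (Δ₀.comp n) = toConv ((toConv Δ₀).ofConv.comp n) from rfl, hΔ, h0, hpost x, hpost y,
        mul_assoc x, mul_assoc x]
      congr 1
      rw [hcomm (y * pinv (toConv (y.ofConv.comp (s : A →ₐ[K] A)))) (pinv (toConv (x.ofConv.comp (s : A →ₐ[K] A))))
        (hsker x).pinv, mul_assoc]
    have h5 := congrArg (fun t : WithConv (A →ₐ[K] R) => t.ofConv a) key
    refine h5.trans ?_
    exact eval_incl n n a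
  refine ⟨BialgHom.ofAlgHom r₀ (AlgHom.ext fun a => ?_) (AlgHom.ext fun a => ?_), fun c => hψ ((hr₀ _).trans (hnψ c))⟩
  · show Coalgebra.counit (R := K) (r₀ a) = Coalgebra.counit (R := K) a
    rw [← CoalgHomClass.counit_comp_apply ψ, hr₀, hn1]
  · show Algebra.TensorProduct.map r₀ r₀ (Coalgebra.comul (R := K) a) = Coalgebra.comul (R := K) (r₀ a)
    refine TensorProduct.map_injective_of_flat_flat (ψ : C →ₗ[K] A) (ψ : C →ₗ[K] A) hψ hψ ?_
    rw [CoalgHomClass.map_comp_comul_apply]
    show _ = Coalgebra.comul (R := K) (ψ (r₀ a))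
    rw [hr₀, hnΔ]
    induction Coalgebra.comul (R := K) a with
    | zero => simp
    | add p q hp hq => simp only [map_add, hp, hq]
    | tmul p q => simp [hr₀]

/-- The existence of a group section. -/
theorem exists_retraction [IsAlgClosed K] [Algebra.FiniteType K A] [IsDomain C] [Algebra.FiniteType K C]
    (hC : HopfRep.IsUnipotent K C) (ψ : C →ₐc[K] A) (hψ : Function.Injective ψ)
    (hdiag : ∀ (W : Type u) [CommRing W] [HopfAlgebra K W] (f : A →ₐc[K] W), Function.Surjective f →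
      (∀ c, f (ψ c) = algebraMap K W (Coalgebra.counit (R := K) c)) → HopfRep.IsDiagonalizable K W) :
    ∃ r : A →ₐc[K] C, ∀ c, r (ψ c) = c := by
  obtain ⟨P, hP, hPmin, hPh⟩ := exists_component (K := K) (A := A)
  haveI := hP
  haveI := hPh
  let p := Bialgebra.Quotient.mkBialgHom (R := K) P
  let ψ' : C →ₐc[K] (A ⧸ P) := p.comp ψ
  have hψ' : Function.Injective ψ' := (injective_iff_map_eq_zero ψ').2 fun c hc =>
    comap_minimalPrime ψ hψ hPmin (Ideal.Quotient.eq_zero_iff_mem.1 hc)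
  let J : Ideal (A ⧸ P) := Ideal.map (ψ' : C →+* A ⧸ P) (RingHom.ker (Bialgebra.counitAlgHom K C))
  have hrep : Dyn.Represents K (A ⧸ P) J (fun R _ _ f => IsKer ψ' (toConv f)) := by
    intro R _ _ f
    refine ⟨fun h => ?_, fun h => IsKer.kills rfl h⟩
    have h1 := (isKer_mk (ψ := ψ') J rfl).post (Ideal.Quotient.liftₐ J f h)
    exact h1
  haveI : J.IsHopfIdeal K := isHopfIdeal_of_represents hrep (fun R _ _ => IsKer.one)
    (fun R _ _ g h hg hh => IsKer.mul hg hh) (fun R _ _ g hg => IsKer.pinv hg)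
  let f : A →ₐc[K] (A ⧸ P) ⧸ J := (Bialgebra.Quotient.mkBialgHom (R := K) J).comp p
  have hQ : HopfRep.IsDiagonalizable K ((A ⧸ P) ⧸ J) := hdiag _ f
    (Ideal.Quotient.mk_surjective.comp Ideal.Quotient.mk_surjective) fun c =>
      (isKer_mk (ψ := ψ') J rfl).apply c
  haveI : Algebra.FiniteType K (A ⧸ P) :=
    Algebra.FiniteType.of_surjective (Ideal.Quotient.mkₐ K P) Ideal.Quotient.mk_surjective
  obtain ⟨r, hr⟩ := exists_retraction_of_domain hC ψ' hψ' J rfl hQ
  exact ⟨r.comp p, hr⟩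

end Groth.L01.MultByUnip
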