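import Mathlib.FieldTheory.PurelyInseparable.Basic
import Mathlib.FieldTheory.SeparableClosure
import Mathlib.FieldTheory.IsAlgClosed.Basic
import Mathlib.FieldTheory.Normal.Basic
import Mathlib.RingTheory.TensorProduct.Free
import Mathlib.RingTheory.Flat.Basic
import Mathlib.LinearAlgebra.TensorProduct.Finiteness

/-!
# Galois fixed elements; connected algebras with a rational point are geometrically connected
-/

set_option autoImplicit false

universe u v w

open TensorProduct

noncomputable section

namespace Groth.L01.MultByUnip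

variable {k : Type u} [Field k] {K : Type v} [Field K] [Algebra k K] [Normal k K]
  {B : Type w} [CommRing B] [Algebra k B]

/-- A separable element fixed by all automorphisms is in the base field. -/
theorem mem_range_of_fixed_elem {x : K} (hs : IsSeparable k x) (hx : ∀ σ : K ≃ₐ[k] K, σ x = x) :
    x ∈ Set.range (algebraMap k K) := by
  classical
  have hint : IsIntegral k x := hs.isIntegral
  have hsp : ((minpoly k x).map (algebraMap k K)).Splits := Normal.splits ‹Normal k K› x
  have hroots : ∀ y, y ∈ ((minpoly k x).map (algebraMap k K)).roots → y = x := by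
    intro y hy
    have hy' : Polynomial.aeval y (minpoly k x) = 0 := by
      rw [Polynomial.aeval_def, ← Polynomial.eval_map]
      exact (Polynomial.mem_roots'.1 hy).2
    obtain ⟨σ, hσ⟩ := minpoly.exists_algEquiv_of_root hint.isAlgebraic hy'
    exact σ.injective (hσ.trans (hx σ).symm)
  have hcard := hsp.natDegree_eq_card_roots
  rw [Polynomial.natDegree_map] at hcard
  have hnd : ((minpoly k x).map (algebraMap k K)).roots.Nodup :=
    Polynomial.nodup_roots ((Polynomial.Separable.map hs))
  have hle : ((minpoly k x).map (algebraMap k K)).roots.card ≤ 1 := by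
    rw [← Multiset.toFinset_card_of_nodup hnd]
    exact Finset.card_le_one.2 fun a ha b hb => by
      rw [hroots a (Multiset.mem_toFinset.1 ha), hroots b (Multiset.mem_toFinset.1 hb)]
  exact minpoly.degree_eq_one_iff.1
    ((Polynomial.degree_eq_iff_natDegree_eq_of_pos one_pos).2 (le_antisymm (hcard ▸ hle) (minpoly.natDegree_pos hint)))

variable (K B) in
/-- The semilinear action of an automorphism. -/
def conjT (σ : K ≃ₐ[k] K) : K ⊗[k] B →ₐ[k] K ⊗[k] B := Algebra.TensorProduct.map (σ : K →ₐ[k] K) (AlgHom.id k B)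

theorem repr_conjT {ι : Type*} (b : Module.Basis ι k B) (σ : K ≃ₐ[k] K) (z : K ⊗[k] B) (i : ι) :
    (Algebra.TensorProduct.basis K b).repr (conjT K B σ z) i = σ ((Algebra.TensorProduct.basis K b).repr z i) := by
  induction z with
  | zero => simp
  | add x y hx hy => simp only [map_add, Finsupp.add_apply, hx, hy]
  | tmul c x => simp [conjT, Algebra.TensorProduct.basis_repr_tmul, Algebra.smul_def]

/-- Descent of fixed elements with separable coordinates. -/
theorem mem_range_of_fixed {z : K ⊗[k] B} (hx : ∀ σ : K ≃ₐ[k] K, conjT K B σ z = z)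
    (hs : ∀ i, IsSeparable k ((Algebra.TensorProduct.basis K (Module.Basis.ofVectorSpace k B)).repr z i)) :
    ∃ b : B, (1 : K) ⊗ₜ[k] b = z := by
  classical
  let b := Module.Basis.ofVectorSpace k B
  let bK := Algebra.TensorProduct.basis K b
  have hc : ∀ i, ∃ c : k, algebraMap k K c = bK.repr z i := fun i =>
    mem_range_of_fixed_elem (hs i) fun σ => by
      show σ ((Algebra.TensorProduct.basis K b).repr z i) = _
      rw [← repr_conjT, hx]
  choose c hc using hc
  refine ⟨(bK.repr z).sum fun i _ => c i • b i, ?_⟩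
  conv_rhs => rw [← bK.linearCombination_repr z, Finsupp.linearCombination_apply]
  rw [Finsupp.sum, Finsupp.sum, TensorProduct.tmul_sum]
  refine Finset.sum_congr rfl fun i _ => ?_
  rw [← hc, algebraMap_smul, TensorProduct.tmul_smul, Algebra.TensorProduct.basis_apply]

/-- Over a perfect field fixed elements descend. -/
theorem mem_range_of_fixed_perfect [PerfectField k] {z : K ⊗[k] B}
    (hx : ∀ σ : K ≃ₐ[k] K, conjT K B σ z = z) : ∃ b : B, (1 : K) ⊗ₜ[k] b = z :=
  mem_range_of_fixed hx fun _ => Algebra.IsSeparable.isSeparable k _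

/-- Fixed idempotents descend. -/
theorem mem_range_of_idempotent {z : K ⊗[k] B} (hz : IsIdempotentElem z)
    (hx : ∀ σ : K ≃ₐ[k] K, conjT K B σ z = z) : ∃ b : B, (1 : K) ⊗ₜ[k] b = z := by
  classical
  obtain ⟨S, hS⟩ := TensorProduct.exists_finset z
  obtain ⟨q, hq⟩ := ExpChar.exists k
  haveI := hq
  have hpi : ∀ x : K, ∃ n : ℕ, IsSeparable k (x ^ q ^ n) := by
    intro x
    haveI : ExpChar (separableClosure k K) q := expChar_of_injective_algebraMap (algebraMap k _).injective q
    obtain ⟨n, y, hy⟩ := IsPurelyInseparable.pow_mem (separableClosure k K) q x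
    exact ⟨n, hy ▸ mem_separableClosure_iff.1 y.2⟩
  choose n hn using hpi
  let N := S.sup fun p => n p.1
  rcases subsingleton_or_nontrivial (K ⊗[k] B) with hsub | hnt
  · exact ⟨0, Subsingleton.elim _ _⟩
  haveI : ExpChar (K ⊗[k] B) q := expChar_of_injective_algebraMap (algebraMap k _).injective q
  have hpow : z = ∑ p ∈ S, (p.1 ^ q ^ N) ⊗ₜ[k] (p.2 ^ q ^ N) := by
    conv_lhs => rw [← (hz.pow_eq (pow_pos (expChar_pos k q) N).ne'), hS, sum_pow_char_pow q N]
    exact Finset.sum_congr rfl fun p _ => Algebra.TensorProduct.tmul_pow _ _ _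
  refine mem_range_of_fixed hx fun i => ?_
  rw [← mem_separableClosure_iff, hpow, map_sum, Finsupp.finset_sum_apply]
  refine Subalgebra.sum_mem (separableClosure k K).toSubalgebra fun p hp => ?_
  rw [Algebra.TensorProduct.basis_repr_tmul]
  simp only [Finsupp.smul_apply, Finsupp.mapRange_apply, smul_eq_mul]
  refine mul_mem ?_ (Subalgebra.algebraMap_mem _ _)
  obtain ⟨d, hd⟩ := Nat.le.dest (Finset.le_sup (f := fun p => n p.1) hp)
  show p.1 ^ q ^ N ∈ separableClosure k K
  rw [show N = n p.1 + d from hd.symm, pow_add, pow_mul]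
  exact pow_mem (mem_separableClosure_iff.2 (hn p.1)) _

/-- A connected algebra with a rational point stays connected over an algebraic normal extension. -/
theorem eq_zero_or_one_of_idempotent (χ : B →ₐ[k] k)
    (hconn : ∀ e : B, IsIdempotentElem e → e = 0 ∨ e = 1) {z : K ⊗[k] B} (hz : IsIdempotentElem z) :
    z = 0 ∨ z = 1 := by
  classical
  let χK : K ⊗[k] B →ₐ[k] K := Algebra.TensorProduct.lift (AlgHom.id k K) ((Algebra.ofId k K).comp χ)
    fun _ _ => Commute.all _ _
  suffices key : ∀ z : K ⊗[k] B, IsIdempotentElem z → χK z = 1 → z = 1 by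
    rcases IsIdempotentElem.iff_eq_zero_or_one.1 (hz.map χK) with h | h
    · exact Or.inl (sub_eq_self.1 (key (1 - z) hz.one_sub (by rw [map_sub, map_one, h, sub_zero])))
    · exact Or.inr (key z hz h)
  clear hz z
  intro z hz hχ
  obtain ⟨S, hS⟩ := TensorProduct.exists_finset z
  have hfin : (Set.range fun σ : K ≃ₐ[k] K => conjT K B σ z).Finite := by
    let R : Finset K := S.biUnion fun p => ((minpoly k p.1).map (algebraMap k K)).roots.toFinset
    have hmem : ∀ (σ : K ≃ₐ[k] K) (p : S), σ p.1.1 ∈ R := by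
      intro σ p
      refine Finset.mem_biUnion.2 ⟨p.1, p.2, Multiset.mem_toFinset.2 ?_⟩
      have hint : IsIntegral k p.1.1 := Algebra.IsIntegral.isIntegral _
      rw [Polynomial.mem_roots (Polynomial.map_ne_zero (minpoly.ne_zero hint)), Polynomial.IsRoot,
        Polynomial.eval_map, ← Polynomial.aeval_def, Polynomial.aeval_algEquiv, AlgHom.comp_apply, minpoly.aeval,
        map_zero]
    refine (Set.finite_range fun t : S → R => ∑ p : S, (t p : K) ⊗ₜ[k] p.1.2).subset ?_
    rintro _ ⟨σ, rfl⟩
    refine ⟨fun p => ⟨σ p.1.1, hmem σ p⟩, ?_⟩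
    show ∑ p : S, σ p.1.1 ⊗ₜ[k] p.1.2 = conjT K B σ z
    rw [hS, map_sum, ← Finset.sum_attach S]
    rfl
  let T := hfin.toFinset
  let e := ∏ w ∈ T, w
  have hidem : ∀ w ∈ T, IsIdempotentElem w := fun w hw => by
    obtain ⟨σ, rfl⟩ := hfin.mem_toFinset.1 hw
    exact hz.map _
  have he : IsIdempotentElem e := by
    show (∏ w ∈ T, w) * (∏ w ∈ T, w) = ∏ w ∈ T, w
    rw [← Finset.prod_mul_distrib]
    exact Finset.prod_congr rfl fun w hw => hidem w hw
  have hχσ : ∀ (σ : K ≃ₐ[k] K) (w : K ⊗[k] B), χK (conjT K B σ w) = σ (χK w) := by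
    intro σ w
    induction w with
    | zero => simp
    | add x y hx hy => simp only [map_add, hx, hy]
    | tmul c x => simp [χK, conjT]
  have hχe : χK e = 1 := by
    rw [map_prod]
    refine Finset.prod_eq_one fun w hw => ?_
    obtain ⟨σ, rfl⟩ := hfin.mem_toFinset.1 hw
    rw [hχσ, hχ, map_one]
  have hfix : ∀ τ : K ≃ₐ[k] K, conjT K B τ e = e := by
    intro τ
    rw [map_prod]
    have hcomp : ∀ (σ τ : K ≃ₐ[k] K) (w : K ⊗[k] B), conjT K B τ (conjT K B σ w) = conjT K B (σ.trans τ) w := by
      intro σ τ w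
      induction w with
      | zero => simp
      | add x y hx hy => simp only [map_add, hx, hy]
      | tmul c x => simp [conjT]
    refine Finset.prod_bij (fun w _ => conjT K B τ w) (fun w hw => ?_) (fun w _ w' _ h => ?_) (fun w hw => ?_)
      (fun w _ => rfl)
    · obtain ⟨σ, rfl⟩ := hfin.mem_toFinset.1 hw
      exact hfin.mem_toFinset.2 ⟨σ.trans τ, (hcomp σ τ z).symm⟩
    · have := congrArg (conjT K B τ.symm) h
      simp only [hcomp, AlgEquiv.self_trans_symm] at this
      simpa [conjT, AlgEquiv.refl_toAlgHom] using this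
    · obtain ⟨σ, rfl⟩ := hfin.mem_toFinset.1 hw
      refine ⟨conjT K B (σ.trans τ.symm) z, hfin.mem_toFinset.2 ⟨_, rfl⟩, ?_⟩
      rw [hcomp, show (σ.trans τ.symm).trans τ = σ from AlgEquiv.ext fun c => by simp]
  obtain ⟨b, hb⟩ := mem_range_of_idempotent he hfix
  have hbid : IsIdempotentElem b := Algebra.TensorProduct.includeRight_injective (A := K) (algebraMap k K).injective (by
    show (1 : K) ⊗ₜ[k] (b * b) = (1 : K) ⊗ₜ[k] b
    rw [← hb] at he
    simpa [IsIdempotentElem] using he)
  rcases hconn b hbid with rfl | rfl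
  · rw [← hb, TensorProduct.tmul_zero, map_zero] at hχe
    exact absurd hχe zero_ne_one
  · have hu : IsUnit e := hb ▸ isUnit_one
    have hzT : z ∈ T := hfin.mem_toFinset.2 ⟨AlgEquiv.refl, by simp [conjT, AlgEquiv.refl_toAlgHom]⟩
    exact (isUnit_of_dvd_unit (Finset.dvd_prod_of_mem _ hzT) hu).mul_left_cancel (hz.trans (mul_one z).symm)

end Groth.L01.MultByUnip
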