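import Groth.Agent.L01.MultByUnip.Core
import Groth.Agent.L01.MultByUnip.ConnBase
import Groth.Agent.L01.UnipSplit.SmoothKer
import Groth.Agent.S7979
import Groth.Agent.S7966
import Groth.Agent.S7951

/-!
# Extensions of smooth connected unipotent groups by groups of multiplicative type over perfect fields
-/

set_option autoImplicit false

universe u

open TensorProduct WithConv Groth.L08 Groth.L01.UnipSplit

noncomputable section

namespace Groth.L01.MultByUnip

variable {k : Type u} [Field k]

/-- A group of multiplicative type is diagonalisable over some algebraically closed extension. -/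
theorem exists_algClosed_diag {B : Type u} [CommRing B] [HopfAlgebra k B] (h : SGA3b.IsMultTypeConst k B) :
    ∃ (L : Type u) (_ : Field L) (_ : Algebra k L), IsAlgClosed L ∧ HopfRep.IsDiagonalizable L (L ⊗[k] B) := by
  obtain ⟨T, _, _, hff, hd⟩ := h
  haveI := hff
  haveI : Nontrivial T := (FaithfulSMul.algebraMap_injective k T).nontrivial
  obtain ⟨P, hP⟩ := Ideal.exists_maximal T
  letI := Ideal.Quotient.field P
  let L := AlgebraicClosure (T ⧸ P)
  haveI : IsScalarTower k T L := IsScalarTower.to₁₂₄ k T (T ⧸ P) L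
  exact ⟨L, inferInstance, inferInstance, inferInstance,
    Groth.Agent.S7979.isDiagonalizable_of_isDiag (Groth.L25.MultType.isDiag_of_tower hd)⟩

/-- A group of multiplicative type and of finite type is diagonalisable over the algebraic closure. -/
theorem isDiagonalizable_algClosure {B : Type u} [CommRing B] [HopfAlgebra k B] [Algebra.FiniteType k B]
    (h : SGA3b.IsMultTypeConst k B) :
    HopfRep.IsDiagonalizable (AlgebraicClosure k) (AlgebraicClosure k ⊗[k] B) := by
  obtain ⟨T, _, _, _, q, hq, -, M, hM, -, ⟨e⟩⟩ := Groth.L25.Char.exists_etale_split_of_const h (⊥ : Ideal k)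
  haveI : Nontrivial T := ⟨0, 1, fun h => hq.ne_top ((Ideal.eq_top_iff_one _).2 (h ▸ q.zero_mem))⟩
  haveI : Module.Finite k T := Algebra.FormallyUnramified.finite_of_free k T
  obtain ⟨P, hP⟩ := Ideal.exists_maximal T
  letI := Ideal.Quotient.field P
  haveI : Algebra.IsAlgebraic k (T ⧸ P) := Algebra.IsAlgebraic.of_finite k (T ⧸ P)
  let f : T →ₐ[k] AlgebraicClosure k :=
    (IsAlgClosed.lift : (T ⧸ P) →ₐ[k] AlgebraicClosure k).comp (Ideal.Quotient.mkₐ k P)
  letI : Algebra T (AlgebraicClosure k) := f.toRingHom.toAlgebra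
  haveI : IsScalarTower k T (AlgebraicClosure k) := IsScalarTower.of_algebraMap_eq fun c => (f.commutes c).symm
  exact Groth.Agent.S7979.isDiagonalizable_of_isDiag (Groth.L25.MultType.isDiag_of_tower (R' := T) ⟨M, hM, ⟨e⟩⟩)

variable {C : Type u} [CommRing C] [HopfAlgebra k C] [Algebra.FiniteType k C] [Algebra.FormallySmooth k C]

/-- A smooth connected group stays integral over an algebraically closed field. -/
theorem isDomain_baseChange (hconn : ∀ e : C, IsIdempotentElem e → e = 0 ∨ e = 1) (L : Type u) [Field L]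
    [Algebra k L] [IsAlgClosed L] : IsDomain (L ⊗[k] C) := by
  let K := AlgebraicClosure k
  haveI : IsReduced (K ⊗[k] C) := Groth.L01.SmoothKer.isReduced_of_formallySmooth (k := K) inferInstance
  haveI : (⊥ : Ideal (K ⊗[k] C)).IsPrime := by
    have h := KrullHopf.nilradical_isPrime K (A := K ⊗[k] C)
      fun e he => eq_zero_or_one_of_idempotent (Bialgebra.counitAlgHom k C) hconn he
    rwa [nilradical_eq_zero (K ⊗[k] C)] at h
  haveI : IsDomain (K ⊗[k] C) := IsDomain.of_bot_isPrime _
  letI : Algebra K L := (IsAlgClosed.lift : K →ₐ[k] L).toRingHom.toAlgebra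
  haveI : IsScalarTower k K L := IsScalarTower.of_algebraMap_eq fun c => ((IsAlgClosed.lift : K →ₐ[k] L).commutes c).symm
  haveI : IsDomain (L ⊗[K] (K ⊗[k] C)) := Groth.L25.GeomIrred.isDomain_tensorProduct
  exact MulEquiv.isDomain (L ⊗[K] (K ⊗[k] C))
    (Algebra.TensorProduct.cancelBaseChange k K L L C).symm.toMulEquiv

/-- Maps from smooth connected unipotent groups to groups of multiplicative type are constant. -/
theorem algHom_multType_const (hconn : ∀ e : C, IsIdempotentElem e → e = 0 ∨ e = 1) (hC : HopfRep.IsUnipotent k C)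
    {B : Type u} [CommRing B] [HopfAlgebra k B] (hB : SGA3b.IsMultTypeConst k B) (f : B →ₐ[k] C) (b : B) :
    f b = algebraMap k C (Bialgebra.counitAlgHom k C (f b)) := by
  obtain ⟨L, _, _, _, hd⟩ := exists_algClosed_diag hB
  haveI := isDomain_baseChange (k := k) hconn L
  have h := algHom_diag_const (K := L) ((Groth.Agent.S7951.result k L C).1 hC) hd
    (Algebra.TensorProduct.map (AlgHom.id L L) f) ((1 : L) ⊗ₜ[k] b)
  refine Algebra.TensorProduct.includeRight_injective (A := L) (algebraMap k L).injective ?_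
  show (1 : L) ⊗ₜ[k] f b = (1 : L) ⊗ₜ[k] algebraMap k C _
  refine h.trans ?_
  rw [Algebra.TensorProduct.map_tmul, AlgHom.id_apply, Algebra.algebraMap_eq_smul_one,
    Algebra.algebraMap_eq_smul_one, TensorProduct.tmul_smul, Algebra.TensorProduct.one_def, TensorProduct.smul_tmul',
    TensorProduct.smul_tmul']
  congr 1
  simp [Algebra.smul_def, mul_comm]

section Ext

variable {A : Type u} [CommRing A] [HopfAlgebra k A] [Algebra.FiniteType k A] (hC : HopfRep.IsUnipotent k C)
  (hconn : ∀ e : C, IsIdempotentElem e → e = 0 ∨ e = 1) (ψ : C →ₐc[k] A)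
  {J : Ideal A} [J.IsHopfIdeal k] (hJ : J = Ideal.map (ψ : C →+* A) (RingHom.ker (Bialgebra.counitAlgHom k C)))
  (hH : SGA3b.IsMultTypeConst k (A ⧸ J))

local notation "K" => AlgebraicClosure k

include hC hconn hJ hH in
/-- Sections with values in the base change are unique. -/
theorem section_unique (r₁ r₂ : A →ₐ[k] K ⊗[k] C)
    (h : ∀ c, r₁ (ψ c) = r₂ (ψ c))
    (h₁ : ∀ a, Coalgebra.counit (R := K) (r₁ a) = algebraMap k K (Coalgebra.counit (R := k) a))
    (h₂ : ∀ a, Coalgebra.counit (R := K) (r₂ a) = algebraMap k K (Coalgebra.counit (R := k) a)) :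
    r₁ = r₂ := by
  haveI := isDomain_baseChange (k := k) hconn K
  haveI : Algebra.FiniteType k (A ⧸ J) :=
    Algebra.FiniteType.of_surjective (Ideal.Quotient.mkₐ k J) Ideal.Quotient.mk_surjective
  let n : WithConv (A →ₐ[k] K ⊗[k] C) := pinv (toConv r₁) * toConv r₂
  have hn : IsKer ψ n := isKer_of_agree (toConv r₁) (toConv r₂) h
  let g := Ideal.Quotient.liftₐ J n.ofConv (IsKer.kills hJ hn)
  let F : K ⊗[k] (A ⧸ J) →ₐ[K] K ⊗[k] C :=
    Algebra.TensorProduct.lift (Algebra.ofId K _) g fun _ _ => Commute.all _ _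
  let εK : K ⊗[k] C →ₐ[k] K := (Bialgebra.counitAlgHom K (K ⊗[k] C)).restrictScalars k
  have hε : ∀ r : A →ₐ[k] K ⊗[k] C, (∀ a, Coalgebra.counit (R := K) (r a) = algebraMap k K (Coalgebra.counit (R := k) a)) →
      toConv (εK.comp r) = 1 := fun r hr => WithConv.ofConv_injective (AlgHom.ext fun a => by
    rw [AlgHom.convOne_apply]; exact hr a)
  have hn1 : toConv (εK.comp n.ofConv) = 1 := by
    rw [UnipSplit.post_mul, show toConv (εK.comp (pinv (toConv r₁)).ofConv) = pinv (toConv (εK.comp r₁)) from rfl,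
      hε r₁ h₁]
    show pinv 1 * toConv (εK.comp r₂) = 1
    rw [hε r₂ h₂, pinv_one, one_mul]
  have hn' : n = 1 := by
    refine WithConv.ofConv_injective (AlgHom.ext fun a => ?_)
    have hF := algHom_diag_const ((Groth.Agent.S7951.result k K C).1 hC)
      (isDiagonalizable_algClosure hH) F ((1 : K) ⊗ₜ[k] Ideal.Quotient.mk J a)
    have hFa : F ((1 : K) ⊗ₜ[k] Ideal.Quotient.mk J a) = n.ofConv a := by
      show algebraMap K _ 1 * g (Ideal.Quotient.mk J a) = _
      rw [map_one, one_mul]; rfl
    rw [hFa] at hF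
    have h1 := congrArg (fun t : WithConv (A →ₐ[k] K) => t.ofConv a) hn1
    simp only [AlgHom.convOne_apply] at h1
    rw [hF, show Coalgebra.counit (R := K) (n.ofConv a) = algebraMap k K (Coalgebra.counit (R := k) a) from h1,
      AlgHom.convOne_apply, ← IsScalarTower.algebraMap_apply]
  have h' : toConv r₁ * (pinv (toConv r₁) * toConv r₂) = toConv r₁ * 1 := congrArg (toConv r₁ * ·) hn'
  rw [← mul_assoc, mul_pinv, one_mul, mul_one] at h'
  exact (WithConv.toConv_injective h').symm

include hC hconn hJ hH in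
/-- The section exists and is unique. -/
theorem existsUnique_retraction [PerfectField k] (hψ : Function.Injective ψ) :
    ∃! r : A →ₐc[k] C, r.comp ψ = BialgHom.id k C := by
  have hunique : ∀ r₁ r₂ : A →ₐc[k] C, r₁.comp ψ = BialgHom.id k C → r₂.comp ψ = BialgHom.id k C → r₁ = r₂ := by
    intro r₁ r₂ h₁ h₂
    let i : C →ₐ[k] K ⊗[k] C := Algebra.TensorProduct.includeRight
    have he : ∀ r : A →ₐc[k] C, ∀ a, Coalgebra.counit (R := K) (i (r a)) = algebraMap k K (Coalgebra.counit (R := k) a) := by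
      intro r a
      show Coalgebra.counit (R := K) ((1 : K) ⊗ₜ[k] r a) = _
      simp [CoalgHomClass.counit_comp_apply, Algebra.smul_def]
    have h := section_unique hC hconn ψ hJ hH (i.comp (r₁ : A →ₐ[k] C)) (i.comp (r₂ : A →ₐ[k] C))
      (fun c => congrArg i (((congrArg (fun f : C →ₐc[k] C => f c) h₁)).trans (congrArg (fun f : C →ₐc[k] C => f c) h₂).symm))
      (he r₁) (he r₂)
    exact BialgHom.ext fun a =>
      Algebra.TensorProduct.includeRight_injective (A := K) (algebraMap k K).injective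
        (congrArg (fun f : A →ₐ[k] K ⊗[k] C => f a) h)
  haveI := isDomain_baseChange (k := k) hconn K
  haveI : Algebra.FiniteType k (A ⧸ J) :=
    Algebra.FiniteType.of_surjective (Ideal.Quotient.mkₐ k J) Ideal.Quotient.mk_surjective
  let ψK : K ⊗[k] C →ₐc[K] K ⊗[k] A := Bialgebra.TensorProduct.map (BialgHom.id K K) ψ
  have hψK : Function.Injective ψK :=
    Module.Flat.lTensor_preserves_injective_linearMap (M := K) (ψ : C →ₗ[k] A) hψ
  let pK : K ⊗[k] A →ₐc[K] K ⊗[k] (A ⧸ J) :=
    Bialgebra.TensorProduct.map (BialgHom.id K K) (Bialgebra.Quotient.mkBialgHom (R := k) J)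
  have hpK : Function.Surjective pK :=
    LinearMap.lTensor_surjective K (g := ((Bialgebra.Quotient.mkBialgHom (R := k) J) : A →ₗ[k] A ⧸ J))
      Ideal.Quotient.mk_surjective
  obtain ⟨rK, hrK⟩ := exists_retraction ((Groth.Agent.S7951.result k K C).1 hC) ψK hψK
    fun W _ _ f hf hfψ => by
      letI : Algebra k W := Algebra.compHom W (algebraMap k K)
      haveI : IsScalarTower k K W := IsScalarTower.of_algebraMap_eq fun _ => rfl
      let f₀ : A →ₐ[k] W := ((f : K ⊗[k] A →ₐ[K] W).restrictScalars k).comp Algebra.TensorProduct.includeRight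
      have hf₀ : ∀ a ∈ J, f₀ a = 0 := by
        intro a ha
        have hle : J ≤ RingHom.ker f₀ := by
          rw [hJ, Ideal.map_le_iff_le_comap]
          intro c hc
          have hc0 : Coalgebra.counit (R := k) c = 0 := hc
          show f ((1 : K) ⊗ₜ[k] ψ c) = 0
          refine (hfψ ((1 : K) ⊗ₜ[k] c)).trans ?_
          simp [hc0]
        exact hle ha
      let g : K ⊗[k] (A ⧸ J) →ₐ[K] W :=
        Algebra.TensorProduct.lift (Algebra.ofId K W) (Ideal.Quotient.liftₐ J f₀ hf₀) fun _ _ => Commute.all _ _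
      have hg : ∀ x, g (pK x) = f x := by
        intro x
        induction x with
        | zero => simp
        | add x y hx hy => simp only [map_add, hx, hy]
        | tmul c a =>
          show algebraMap K W c * f₀ a = f (c ⊗ₜ[k] a)
          rw [show c ⊗ₜ[k] a = c • ((1 : K) ⊗ₜ[k] a) by rw [TensorProduct.smul_tmul', smul_eq_mul, mul_one],
            map_smul, Algebra.smul_def]
          rfl
      obtain ⟨g', hg'⟩ := exists_bialg_factor pK hpK f g hg
      exact isDiagonalizable_of_surjective g' (fun w => by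
        obtain ⟨x, rfl⟩ := hf w
        exact ⟨pK x, hg' x⟩) (isDiagonalizable_algClosure hH)
  let ρ : A →ₐ[k] K ⊗[k] C :=
    ((rK : K ⊗[k] A →ₐ[K] K ⊗[k] C).restrictScalars k).comp Algebra.TensorProduct.includeRight
  have hρψ : ∀ c, ρ (ψ c) = (1 : K) ⊗ₜ[k] c := fun c => hrK ((1 : K) ⊗ₜ[k] c)
  have hρε : ∀ a, Coalgebra.counit (R := K) (ρ a) = algebraMap k K (Coalgebra.counit (R := k) a) := fun a => by
    show Coalgebra.counit (R := K) (rK ((1 : K) ⊗ₜ[k] a)) = _
    rw [CoalgHomClass.counit_comp_apply]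
    simp [Algebra.smul_def]
  have hfix : ∀ (σ : K ≃ₐ[k] K) (a : A), conjT K C σ (ρ a) = ρ a := by
    intro σ a
    have hεσ : ∀ w : K ⊗[k] C, Coalgebra.counit (R := K) (conjT K C σ w) = σ (Coalgebra.counit (R := K) w) := by
      intro w
      induction w with
      | zero => simp
      | add x y hx hy => simp only [map_add, hx, hy]
      | tmul c x => simp [conjT, Algebra.smul_def]
    exact congrArg (fun f : A →ₐ[k] K ⊗[k] C => f a) (section_unique hC hconn ψ hJ hH ((conjT K C σ).comp ρ) ρ
      (fun c => by show conjT K C σ (ρ (ψ c)) = ρ (ψ c); rw [hρψ]; simp [conjT])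
      (fun a => by show Coalgebra.counit (R := K) (conjT K C σ (ρ a)) = _; rw [hεσ, hρε, AlgEquiv.commutes]) hρε)
  have hdesc : ∀ a, ρ a ∈ (Algebra.TensorProduct.includeRight : C →ₐ[k] K ⊗[k] C).range := fun a =>
    mem_range_of_fixed_perfect fun σ => hfix σ a
  have hincl := Algebra.TensorProduct.includeRight_injective (R := k) (B := C) (A := K) (algebraMap k K).injective
  let eC := AlgEquiv.ofInjective (Algebra.TensorProduct.includeRight : C →ₐ[k] K ⊗[k] C) hincl
  let r₀ : A →ₐ[k] C := (eC.symm : _ →ₐ[k] C).comp (ρ.codRestrict _ hdesc)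
  have hr₀ : ∀ a, (1 : K) ⊗ₜ[k] r₀ a = rK ((1 : K) ⊗ₜ[k] a) := fun a =>
    congrArg Subtype.val (eC.apply_symm_apply ⟨ρ a, hdesc a⟩)
  let r : A →ₐc[k] C := BialgHom.ofAlgHom r₀
    (AlgHom.ext fun a => (algebraMap k K).injective (by
      show algebraMap k K (Coalgebra.counit (R := k) (r₀ a)) = algebraMap k K (Coalgebra.counit (R := k) a)
      rw [← hρε a]
      show _ = Coalgebra.counit (R := K) (rK ((1 : K) ⊗ₜ[k] a))
      rw [← hr₀]
      simp [Algebra.smul_def]))
    (AlgHom.ext fun a => by
      show Algebra.TensorProduct.map r₀ r₀ (Coalgebra.comul (R := k) a) = Coalgebra.comul (R := k) (r₀ a)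
      refine Algebra.TensorProduct.includeRight_injective (R := k) (B := C ⊗[k] C) (A := K) (algebraMap k K).injective ?_
      refine (TensorProduct.AlgebraTensorModule.distribBaseChange k K C C).injective ?_
      show TensorProduct.AlgebraTensorModule.distribBaseChange k K C C ((1 : K) ⊗ₜ[k] _) =
        TensorProduct.AlgebraTensorModule.distribBaseChange k K C C ((1 : K) ⊗ₜ[k] _)
      rw [← Groth.Agent.S7966.comul_one_tmul, hr₀, ← CoalgHomClass.map_comp_comul_apply rK,
        Groth.Agent.S7966.comul_one_tmul]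
      induction Coalgebra.comul (R := k) a with
      | zero => simp
      | add x y hx hy => simp only [map_add, TensorProduct.tmul_add, hx, hy]
      | tmul x y =>
        show ((1 : K) ⊗ₜ[k] r₀ x) ⊗ₜ[K] ((1 : K) ⊗ₜ[k] r₀ y) = rK ((1 : K) ⊗ₜ[k] x) ⊗ₜ[K] rK ((1 : K) ⊗ₜ[k] y)
        rw [hr₀, hr₀])
  have hr : r.comp ψ = BialgHom.id k C := BialgHom.ext fun c => hincl ((hr₀ (ψ c)).trans (hρψ c))
  exact ⟨r, hr, fun r' hr' => hunique r' r hr' hr⟩

end Ext

end Groth.L01.MultByUnip
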