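import Groth.Agent.L08.Rosenlicht
import Groth.Agent.S2966
import Groth.Prelude.Def_HopfRep
import Mathlib.RingTheory.HopfAlgebra.GroupLike

/-!
# Units of connected unipotent groups are constants
-/

set_option autoImplicit false

universe u v

open TensorProduct WithConv Groth.L08

noncomputable section

namespace Groth.L01.MultByUnip

variable {K : Type u} [Field K] [IsAlgClosed K] {C : Type u} [CommRing C] [IsDomain C] [HopfAlgebra K C]
  [Algebra.FiniteType K C]

/-- A unit on a connected unipotent group is constant. -/
theorem eq_algebraMap_of_isUnit (hU : HopfRep.IsUnipotent K C) {a : C} (ha : IsUnit a) :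
    a = algebraMap K C (Coalgebra.counit (R := K) a) := by
  have hc : IsUnit (Coalgebra.counit (R := K) a) := ha.map (Bialgebra.counitAlgHom K C)
  let c := Coalgebra.counit (R := K) a
  have h1 : Coalgebra.counit (R := K) (c⁻¹ • a) = 1 := by
    rw [map_smul, smul_eq_mul]; exact inv_mul_cancel₀ hc.ne_zero
  have hg := Rosenlicht.isGroupLikeElem_of_isUnit
    (fun e he => IsIdempotentElem.iff_eq_zero_or_one.1 he)
    (show IsUnit (c⁻¹ • a) by
      rw [Algebra.smul_def]; exact ((IsUnit.mk0 _ (inv_ne_zero hc.ne_zero)).map _).mul ha) h1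
  have h2 := Groth.Agent.S2966.groupLike_eq_one hU hg
  rw [inv_smul_eq_iff₀ hc.ne_zero] at h2
  rw [h2, Algebra.algebraMap_eq_smul_one, map_smul, Bialgebra.counit_one, smul_eq_mul, mul_one]

/-- Maps from connected unipotent groups to diagonalisable groups are constant. -/
theorem algHom_diag_const (hU : HopfRep.IsUnipotent K C) {Q : Type v} [CommRing Q] [HopfAlgebra K Q]
    (hQ : HopfRep.IsDiagonalizable K Q) (f : Q →ₐ[K] C) (q : Q) :
    f q = algebraMap K C (Coalgebra.counit (R := K) (f q)) := by
  have hq : q ∈ Submodule.span K {a : Q | IsGroupLikeElem K a} := hQ.ge Submodule.mem_top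
  induction hq using Submodule.span_induction with
  | mem x hx => exact eq_algebraMap_of_isUnit hU ((IsGroupLikeElem.isUnit hx).map f)
  | zero => simp
  | add x y _ _ hx hy =>
    conv_lhs => rw [map_add, hx, hy]
    simp only [map_add]
  | smul c x _ hx =>
    conv_lhs => rw [map_smul, hx, Algebra.smul_def, ← map_mul]
    simp [map_smul, smul_eq_mul]

end Groth.L01.MultByUnip
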